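import Cfsg.Agent.H978.Bs.SU
import Cfsg.Agent.H847.Bs.Stmts

/-!
# S5733: large rank assembly (helper978)
-/

set_option autoImplicit false
set_option linter.unusedSectionVars false

namespace Cfsg.Agent.H978.Bs

open Cfsg.Agent.H847.Bs Module Subgroup
open Cfsg.Agent.H851.Dg (nd)
open Cfsg.Agent.LieClassical.OrthCore

section gen

variable {F V : Type} [Field F] [Finite F] [AddCommGroup V] [Module F V] [Module.Finite F V]

theorem finite_equiv : Finite (V ≃ₗ[F] V) := by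
  have : Finite V := Module.finite_of_finite F
  exact Finite.of_injective (fun g : V ≃ₗ[F] V => (g : V → V)) DFunLike.coe_injective

/-- a subgroup which leaves `Y` invariant misses the elements which leave no image of `Y` invariant -/
theorem noInv_le {G H : Subgroup (V ≃ₗ[F] V)} {Y : Submodule F V} (hY : ∀ h ∈ H, Inv h Y) :
    noInv G Y ≤ ndV G H := by
  have hfin := finite_equiv (F := F) (V := V)
  unfold noInv ndV
  refine Nat.card_le_card_of_injective (fun x => ⟨x.1, x.2.1, fun g hg h => ?_⟩)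
    fun x y h => by
      have h' := Subtype.ext_iff.1 h
      exact Subtype.ext h'
  refine x.2.2 g⁻¹ (G.inv_mem hg) ?_
  rintro v ⟨y, hy, rfl⟩
  refine ⟨(g * x.1 * g⁻¹) y, hY _ h y hy, ?_⟩
  show (g⁻¹ * (g * x.1 * g⁻¹)) y = (x.1 * g⁻¹) y
  congr 1
  group

theorem RB_of_ndV {G : Subgroup (V ≃ₗ[F] V)} {c : ℝ}
    (h : ∀ H ≤ G, ¬ G ≤ H → c * (Nat.card G : ℝ) ≤ ndV G H) : RB c ↥G := by
  intro K hK
  have h1 := h (K.map G.subtype) (map_subtype_le K) (fun h2 => hK ?_)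
  · rw [ndV_eq] at h1
    have h2 : (K.map G.subtype).subgroupOf G = K := comap_map_eq_self_of_injective G.subtype_injective K
    rwa [h2] at h1
  · rw [eq_top_iff]
    intro x _
    obtain ⟨y, hy, hxy⟩ := h2 x.2
    have : y = x := Subtype.ext hxy
    exact this ▸ hy

theorem exists_min {H : Subgroup (V ≃ₗ[F] V)} (hH : ¬ IrrG H) : ∃ Y : Submodule F V, (∀ h ∈ H, Inv h Y) ∧ Y ≠ ⊥ ∧
    Y ≠ ⊤ ∧ ∀ Z ≤ Y, (∀ h ∈ H, Inv h Z) → Z = ⊥ ∨ Z = Y := by
  unfold IrrG at hH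
  push Not at hH
  obtain ⟨Y, hY, hY0, hY1⟩ := hH
  obtain ⟨Z, ⟨hZ, hZ0, hZY⟩, hmin⟩ := wellFounded_lt.has_min
    {Z : Submodule F V | (∀ h ∈ H, Inv h Z) ∧ Z ≠ ⊥ ∧ Z ≤ Y} ⟨Y, hY, hY0, le_rfl⟩
  refine ⟨Z, hZ, hZ0, fun h => hY1 (top_le_iff.1 (h ▸ hZY)), fun X hX hXi => ?_⟩
  by_contra hc
  push Not at hc
  exact hmin X ⟨hXi, hc.1, hX.trans hZY⟩ (lt_of_le_of_ne hX hc.2)

variable {Φ : Frm F V}

/-- the radical of a subspace -/
def rad (Φ : Frm F V) (Y : Submodule F V) : Submodule F V where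
  carrier := {y | y ∈ Y ∧ ∀ w ∈ Y, Φ.B y w = 0}
  add_mem' := by
    rintro a b ⟨ha, ha'⟩ ⟨hb, hb'⟩
    exact ⟨Y.add_mem ha hb, fun w hw => by rw [Φ.add_left, ha' w hw, hb' w hw, add_zero]⟩
  zero_mem' := ⟨Y.zero_mem, fun w _ => by
    have := Φ.smul_left 0 0 w
    rwa [zero_smul, zero_mul] at this⟩
  smul_mem' := by
    rintro a b ⟨hb, hb'⟩
    exact ⟨Y.smul_mem a hb, fun w hw => by rw [Φ.smul_left, hb' w hw, mul_zero]⟩

theorem rad_inv {H : Subgroup (V ≃ₗ[F] V)} (hH : H ≤ Φ.Iso) {Y : Submodule F V} (hY : ∀ h ∈ H, Inv h Y) :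
    ∀ h ∈ H, Inv h (rad Φ Y) := by
  rintro h hh v ⟨hv, hv'⟩
  refine ⟨hY h hh v hv, fun w hw => ?_⟩
  have h1 : h (h⁻¹ w) = w := h.apply_symm_apply w
  rw [← h1, (hH hh).1]
  exact hv' _ (hY _ (H.inv_mem hh) w hw)

/-- a reducible group leaves a nondegenerate or a totally isotropic subspace invariant -/
theorem exists_form {H : Subgroup (V ≃ₗ[F] V)} (hH : H ≤ Φ.Iso) (hirr : ¬ IrrG H) :
    ∃ Y : Submodule F V, (∀ h ∈ H, Inv h Y) ∧ Y ≠ ⊥ ∧ Y ≠ ⊤ ∧ (Φ.NdOn Y ∨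
      ((∀ x ∈ Y, ∀ y ∈ Y, Φ.B x y = 0) ∧ ∀ Z ≤ Y, (∀ h ∈ H, Inv h Z) → Z = ⊥ ∨ Z = Y)) := by
  obtain ⟨Y, hY, h0, h1, hmin⟩ := exists_min hirr
  refine ⟨Y, hY, h0, h1, ?_⟩
  rcases hmin (rad Φ Y) (fun y hy => hy.1) (rad_inv hH hY) with h | h
  · left
    intro x hx hx'
    have : x ∈ rad Φ Y := ⟨hx, hx'⟩
    rwa [h, Submodule.mem_bot] at this
  · right
    refine ⟨fun x hx y hy => ?_, hmin⟩
    rw [← h] at hx
    exact hx.2 y hy

theorem mul_min_le {c₁ c₂ : ℝ} {g : ℝ} (hg : 0 ≤ g) (h : c₁ ≤ c₂) {n : ℝ} (h1 : c₂ * g ≤ n) : c₁ * g ≤ n :=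
  (mul_le_mul_of_nonneg_right h hg).trans h1

end gen

/-! ### `SL` -/

theorem large_sl (h20 : S20) (h24 : S24) (h30 : S30) (h34 : S34) (h40 : S40a) : ∃ c : ℝ, 0 < c ∧ ∃ n₀ : ℕ,
    ∀ (F V : Type) [Field F] [Finite F] [AddCommGroup V] [Module F V] [Module.Finite F V], n₀ ≤ finrank F V →
    RB c ↥(slV F V) := by
  obtain ⟨c0, hc0, n0, h20⟩ := h20 h40
  obtain ⟨c4, hc4, n4, h24⟩ := h24
  obtain ⟨c5, hc5, n5, h34⟩ := h34
  refine ⟨min c0 (min c4 c5), lt_min hc0 (lt_min hc4 hc5), max n0 (max n4 n5), ?_⟩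
  intro F V _ _ _ _ _ hn
  have hn0 : n0 ≤ finrank F V := (le_max_left _ _).trans hn
  have hn4 : n4 ≤ finrank F V := ((le_max_left _ _).trans (le_max_right _ _)).trans hn
  have hn5 : n5 ≤ finrank F V := ((le_max_right _ _).trans (le_max_right _ _)).trans hn
  have hg : (0 : ℝ) ≤ Nat.card (slV F V) := Nat.cast_nonneg _
  refine RB_of_ndV fun H hH hn => ?_
  by_cases hirr : IrrG H
  · by_contra hc
    push Not at hc
    have hc' : (ndV (slV F V) H : ℝ) < c0 * Nat.card (slV F V) :=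
      hc.trans_le (mul_le_mul_of_nonneg_right (min_le_left _ _) hg)
    obtain ⟨W, U, hWU, hW, hon⟩ := h20 F V hn0 H hH hc'
    rcases h30 F V H W U hH hirr hWU hW.ge hon with h | ⟨D, hD, hD3⟩
    · exact hn h
    · exact hc.not_ge (mul_min_le hg ((min_le_right _ _).trans (min_le_right _ _))
        (h34 F V hn5 H hH hirr D hD (by omega)))
  · obtain ⟨Y, hY, h0, h1, -⟩ := exists_min hirr
    have hfin := finite_equiv (F := F) (V := V)
    have hk1 : 1 ≤ finrank F Y := by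
      rw [Nat.one_le_iff_ne_zero]
      intro h
      exact h0 (Submodule.finrank_eq_zero.1 h)
    have hk2 : finrank F Y < finrank F V := Submodule.finrank_lt h1
    refine mul_min_le hg ((min_le_right _ _).trans (min_le_left _ _)) ((h24 F V hn4 _ hk1 hk2).trans ?_)
    refine Nat.cast_le.2 (Nat.card_le_card_of_injective (fun x => ⟨x.1, x.2.1, fun g hg h => ?_⟩)
      fun x y h => by
      have h' := Subtype.ext_iff.1 h
      exact Subtype.ext h')
    refine x.2.2 (Y.map ((g⁻¹ : V ≃ₗ[F] V) : V →ₗ[F] V)) ?_ (LinearEquiv.finrank_map_eq (g⁻¹ : V ≃ₗ[F] V) Y)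
    rintro v ⟨y, hy, rfl⟩
    refine ⟨(g * x.1 * g⁻¹) y, hY _ h y hy, ?_⟩
    show (g⁻¹ * (g * x.1 * g⁻¹)) y = (x.1 * g⁻¹) y
    congr 1
    group

/-! ### `Sp` -/

theorem large_sp (h21 : S21) (h25 : S25) (h28 : S28s) (h31 : S31) (h35 : S35s) (h40 : S40s) : ∃ c : ℝ, 0 < c ∧
    ∃ n₀ : ℕ, ∀ (F V : Type) [Field F] [Finite F] [AddCommGroup V] [Module F V] [Module.Finite F V] (Φ : Frm F V),
    IsSp Φ → n₀ ≤ finrank F V → RB c ↥Φ.Iso := by
  obtain ⟨c0, hc0, n0, h21⟩ := h21 h40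
  obtain ⟨c5, hc5, n5, h25⟩ := h25
  obtain ⟨c8, hc8, n8, h28⟩ := h28
  obtain ⟨c9, hc9, n9, h35⟩ := h35
  refine ⟨min (min c0 c5) (min c8 c9), lt_min (lt_min hc0 hc5) (lt_min hc8 hc9), max (max n0 n5) (max n8 n9), ?_⟩
  intro F V _ _ _ _ _ Φ hΦ hn
  have hn0 : n0 ≤ finrank F V := ((le_max_left _ _).trans (le_max_left _ _)).trans hn
  have hn5 : n5 ≤ finrank F V := ((le_max_right _ _).trans (le_max_left _ _)).trans hn
  have hn8 : n8 ≤ finrank F V := ((le_max_left _ _).trans (le_max_right _ _)).trans hn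
  have hn9 : n9 ≤ finrank F V := ((le_max_right _ _).trans (le_max_right _ _)).trans hn
  have hg : (0 : ℝ) ≤ Nat.card Φ.Iso := Nat.cast_nonneg _
  refine RB_of_ndV fun H hH hn => ?_
  by_cases hirr : IrrG H
  · by_contra hc
    push Not at hc
    have hc' : (ndV Φ.Iso H : ℝ) < c0 * Nat.card Φ.Iso :=
      hc.trans_le (mul_le_mul_of_nonneg_right ((min_le_left _ _).trans (min_le_left _ _)) hg)
    obtain ⟨W, U, hWU, hW, hon⟩ := h21 F V Φ hΦ hn0 H hH hc'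
    rcases h31 F V Φ H W U hΦ hH hirr hWU hW.ge hon with h | ⟨D, hD, hD3⟩
    · exact hn h
    · exact hc.not_ge (mul_min_le hg ((min_le_right _ _).trans (min_le_right _ _))
        (h35 F V Φ hΦ hn9 H hH hirr D hD (by omega)))
  · obtain ⟨Y, hY, h0, h1, h2 | ⟨h2, -⟩⟩ := exists_form hH hirr
    · exact mul_min_le hg ((min_le_right _ _).trans (min_le_left _ _))
        ((h28 F V Φ hΦ hn8 Y h0 h1 h2).trans (Nat.cast_le.2 (noInv_le hY)))
    · exact mul_min_le hg ((min_le_left _ _).trans (min_le_right _ _))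
        ((h25 F V Φ hΦ hn5 Y h0 ⟨h2, fun x _ => hΦ.q x⟩).trans (Nat.cast_le.2 (noInv_le hY)))

/-! ### `SU` -/

theorem large_su (h22 : S22) (h26 : S26) (h28 : S28u) (h32 : S32) (h35 : S35u) (h40 : S40u) : ∃ c : ℝ, 0 < c ∧
    ∃ n₀ : ℕ, ∀ (F V : Type) [Field F] [Finite F] [AddCommGroup V] [Module F V] [Module.Finite F V] (r : ℕ)
    (Φ : Frm F V), IsHerm r Φ → n₀ ≤ finrank F V → RB c ↥(Φ.Iso ⊓ slV F V) := by
  obtain ⟨c0, hc0, n0, h22⟩ := h22 h40
  obtain ⟨c5, hc5, n5, h26⟩ := h26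
  obtain ⟨c8, hc8, n8, h28⟩ := h28
  obtain ⟨c9, hc9, n9, h35⟩ := h35
  refine ⟨min (min c0 c5) (min c8 c9), lt_min (lt_min hc0 hc5) (lt_min hc8 hc9), max (max n0 n5) (max n8 n9), ?_⟩
  intro F V _ _ _ _ _ r Φ hΦ hn
  have hn0 : n0 ≤ finrank F V := ((le_max_left _ _).trans (le_max_left _ _)).trans hn
  have hn5 : n5 ≤ finrank F V := ((le_max_right _ _).trans (le_max_left _ _)).trans hn
  have hn8 : n8 ≤ finrank F V := ((le_max_left _ _).trans (le_max_right _ _)).trans hn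
  have hn9 : n9 ≤ finrank F V := ((le_max_right _ _).trans (le_max_right _ _)).trans hn
  have hg : (0 : ℝ) ≤ Nat.card ↥(Φ.Iso ⊓ slV F V) := Nat.cast_nonneg _
  refine RB_of_ndV fun H hH hn => ?_
  by_cases hirr : IrrG H
  · by_contra hc
    push Not at hc
    have hc' : (ndV (Φ.Iso ⊓ slV F V) H : ℝ) < c0 * Nat.card ↥(Φ.Iso ⊓ slV F V) :=
      hc.trans_le (mul_le_mul_of_nonneg_right ((min_le_left _ _).trans (min_le_left _ _)) hg)
    obtain ⟨W, U, hWU, hW, hon⟩ := h22 F V r Φ hΦ hn0 H hH hc'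
    rcases h32 F V r Φ H W U hΦ hH hirr hWU hW.ge hon with h | ⟨D, hD, hD3⟩
    · exact hn h
    · exact hc.not_ge (mul_min_le hg ((min_le_right _ _).trans (min_le_right _ _))
        (h35 F V r Φ hΦ hn9 H hH hirr D hD (by omega)))
  · obtain ⟨Y, hY, h0, h1, h2 | ⟨h2, -⟩⟩ := exists_form (hH.trans inf_le_left) hirr
    · exact mul_min_le hg ((min_le_right _ _).trans (min_le_left _ _))
        ((h28 F V r Φ hΦ hn8 Y h0 h1 h2).trans (Nat.cast_le.2 (noInv_le hY)))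
    · exact mul_min_le hg ((min_le_left _ _).trans (min_le_right _ _))
        ((h26 F V r Φ hΦ hn5 Y h0 ⟨h2, fun x _ => hΦ.q x⟩).trans (Nat.cast_le.2 (noInv_le hY)))

/-! ### `Ω` -/

section om

variable {F V : Type} [Field F] [Finite F] [AddCommGroup V] [Module F V] [Module.Finite F V] {Q : QuadraticForm F V}

theorem O_le_Iso : O Q ≤ (frmQ Q).Iso := by
  intro g hg
  have hq : ∀ v, Q (g v) = Q v := hg
  refine ⟨fun x y => ?_, hq⟩
  show Q (g x + g y) - Q (g x) - Q (g y) = Q (x + y) - Q x - Q y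
  rw [← map_add, hq, hq, hq]

/-- the singular vectors of a totally isotropic subspace -/
def sing (Q : QuadraticForm F V) (Y : Submodule F V) (hY : ∀ x ∈ Y, ∀ y ∈ Y, (frmQ Q).B x y = 0) :
    Submodule F V where
  carrier := {y | y ∈ Y ∧ Q y = 0}
  add_mem' := by
    rintro a b ⟨ha, ha'⟩ ⟨hb, hb'⟩
    refine ⟨Y.add_mem ha hb, ?_⟩
    have := (frmQ Q).q_add a b (hY a ha b hb)
    change Q (a + b) = Q a + Q b at this
    rw [this, ha', hb', add_zero]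
  zero_mem' := ⟨Y.zero_mem, map_zero Q⟩
  smul_mem' := by
    rintro a b ⟨hb, hb'⟩
    exact ⟨Y.smul_mem a hb, by rw [QuadraticMap.map_smul, hb', smul_zero]⟩

theorem ti_or {H : Subgroup (V ≃ₗ[F] V)} (hH : H ≤ O Q) {Y : Submodule F V} (hYH : ∀ h ∈ H, Inv h Y) (h0 : Y ≠ ⊥)
    (hY : ∀ x ∈ Y, ∀ y ∈ Y, (frmQ Q).B x y = 0) (hmin : ∀ Z ≤ Y, (∀ h ∈ H, Inv h Z) → Z = ⊥ ∨ Z = Y) :
    (frmQ Q).TI Y ∨ ((2 : F) = 0 ∧ ∃ y : V, Q y ≠ 0 ∧ Y = Submodule.span F {y}) := by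
  have hinv : ∀ h ∈ H, Inv h (sing Q Y hY) := by
    rintro h hh v ⟨hv, hv'⟩
    exact ⟨hYH h hh v hv, by rw [hH hh v, hv']⟩
  rcases hmin (sing Q Y hY) (fun y hy => hy.1) hinv with h | h
  · right
    obtain ⟨y, hy, hy0⟩ := (Submodule.ne_bot_iff Y).1 h0
    have hs : ∀ z ∈ Y, Q z = 0 → z = 0 := fun z hz hz' => by
      have : z ∈ sing Q Y hY := ⟨hz, hz'⟩
      rwa [h, Submodule.mem_bot] at this
    have hQy : Q y ≠ 0 := fun h => hy0 (hs y hy h)
    have h2 : (2 : F) = 0 := by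
      have h3 := hY y hy y hy
      change QuadraticMap.polar Q y y = 0 at h3
      rw [QuadraticMap.polar_self] at h3
      rw [nsmul_eq_mul] at h3
      exact (mul_eq_zero.1 h3).resolve_right hQy
    refine ⟨h2, y, hQy, le_antisymm (fun z hz => ?_) ((Submodule.span_singleton_le_iff_mem y Y).2 hy)⟩
    have hch : CharP F 2 := CharTwo.of_one_ne_zero_of_two_eq_zero one_ne_zero h2
    obtain ⟨a, ha⟩ : ∃ a : F, a ^ 2 = Q z / Q y := by
      have hfr : Function.Surjective (frobenius F 2) :=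
        Finite.surjective_of_injective (frobenius_inj F 2)
      exact hfr (Q z / Q y)
    have h3 : z + a • y = 0 := by
      refine hs _ (Y.add_mem hz (Y.smul_mem a hy)) ?_
      have := (frmQ Q).q_add z (a • y) (hY z hz _ (Y.smul_mem a hy))
      change Q (z + a • y) = Q z + Q (a • y) at this
      rw [this, QuadraticMap.map_smul, smul_eq_mul, ← pow_two, ha, div_mul_cancel₀ _ hQy, ← two_mul, h2, zero_mul]
    have h4 : z = -(a • y) := eq_neg_of_add_eq_zero_left h3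
    rw [h4, Submodule.mem_span_singleton]
    exact ⟨-a, by rw [neg_smul]⟩
  · left
    refine ⟨hY, fun x hx => ?_⟩
    rw [← h] at hx
    exact hx.2

end om

theorem large_om (h23 : S23) (h27 : S27) (h28 : S28o) (h33 : S33) (h35 : S35o) (h40 : S40o) : ∃ c : ℝ, 0 < c ∧
    ∃ n₀ : ℕ, ∀ (F V : Type) [Field F] [Finite F] [AddCommGroup V] [Module F V] [Module.Finite F V]
    (Q : QuadraticForm F V), (frmQ Q).Nd → n₀ ≤ finrank F V → RB c ↥(E Q) := by
  obtain ⟨c0, hc0, n0, h23⟩ := h23 h40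
  obtain ⟨c5, hc5, n5, h27⟩ := h27
  obtain ⟨c8, hc8, n8, h28⟩ := h28
  obtain ⟨c9, hc9, n9, h35⟩ := h35
  refine ⟨min (min c0 c5) (min c8 c9), lt_min (lt_min hc0 hc5) (lt_min hc8 hc9), max (max n0 n5) (max n8 n9), ?_⟩
  intro F V _ _ _ _ _ Q hQ hn
  have hn0 : n0 ≤ finrank F V := ((le_max_left _ _).trans (le_max_left _ _)).trans hn
  have hn5 : n5 ≤ finrank F V := ((le_max_right _ _).trans (le_max_left _ _)).trans hn
  have hn8 : n8 ≤ finrank F V := ((le_max_left _ _).trans (le_max_right _ _)).trans hn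
  have hn9 : n9 ≤ finrank F V := ((le_max_right _ _).trans (le_max_right _ _)).trans hn
  have hg : (0 : ℝ) ≤ Nat.card ↥(E Q) := Nat.cast_nonneg _
  refine RB_of_ndV fun H hH hn => ?_
  by_cases hirr : IrrG H
  · by_contra hc
    push Not at hc
    have hc' : (ndV (E Q) H : ℝ) < c0 * Nat.card ↥(E Q) :=
      hc.trans_le (mul_le_mul_of_nonneg_right ((min_le_left _ _).trans (min_le_left _ _)) hg)
    obtain ⟨W, hW, hWd, hon⟩ := h23 F V Q hQ hn0 H hH hc'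
    rcases h33 F V Q H W hQ hH hirr hW (by omega) hon with h | ⟨D, hD, hD3⟩
    · exact hn h
    · exact hc.not_ge (mul_min_le hg ((min_le_right _ _).trans (min_le_right _ _))
        (h35 F V Q hQ hn9 H hH hirr D hD (by omega)))
  · have hHO : H ≤ O Q := hH.trans E_le_O
    obtain ⟨Y, hY, h0, h1, h2 | ⟨h2, hmin⟩⟩ := exists_form (hHO.trans O_le_Iso) hirr
    · exact mul_min_le hg ((min_le_right _ _).trans (min_le_left _ _))
        ((h28 F V Q hQ hn8 Y h0 h1 h2).trans (Nat.cast_le.2 (noInv_le hY)))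
    · exact mul_min_le hg ((min_le_left _ _).trans (min_le_right _ _))
        ((h27 F V Q hQ hn5 Y h0 (ti_or hHO hY h0 h2 hmin)).trans (Nat.cast_le.2 (noInv_le hY)))

end Cfsg.Agent.H978.Bs
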