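import Cfsg.Agent.H978.Bs.SU
import Cfsg.Agent.H826.Bs.CountSH
import Cfsg.Agent.H796.Bs.Comb
import Cfsg.Agent.H440.Bs.Rec
import Cfsg.Agent.H881.Bs.HermMinus
import Cfsg.Agent.H881.Bs.HermPlus

/-!
# S5733: BS11 (hermitian count) and BS22 without hypotheses (helper978; from helper826, helper796, helper440, helper881)
-/

set_option autoImplicit false

namespace Cfsg.Agent.H978.Bs

open Cfsg.Agent.H847.Bs Module

/-- **BS11** -/
theorem s11 : S11 := by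
  obtain ⟨K₀, hc⟩ := Cfsg.Agent.H796.Bs.comb
  refine ⟨1 / 32, by norm_num, K₀, ?_⟩
  intro F V _ _ _ _ _ r Φ n K hΦ hK hn hKn
  have hc' : Cfsg.Agent.H826.Bs.CombAt (2 * K) := fun p h0 h1 h2 h3 => hc (2 * K) (by omega) p h0 h1 h2 h3
  have h1 := Cfsg.Agent.H826.Bs.count_herm_at hc' (F := F) (r := r)
    (fun V _ _ _ Φ hN => ⟨fun D U h K d X Y hd hK hX hY => Cfsg.Agent.H440.Bs.rec_minus h hN hd hK hX hY,
      fun D U h K d X Y hd hK hX hY => Cfsg.Agent.H440.Bs.rec_plus h hN hd hK hX hY⟩)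
    (fun V _ _ _ Φ hΦ ho => Cfsg.Agent.H881.Bs.herm_minus hΦ rfl ho)
    (fun V _ _ _ Φ hΦ he h2 => Cfsg.Agent.H881.Bs.herm_plus hΦ rfl he h2)
    V Φ hΦ (by omega)
  have hI : (0 : ℝ) < Nat.card Φ.Iso := by exact_mod_cast Cfsg.Agent.H826.Bs.card_Iso_pos Φ
  unfold Cfsg.Agent.H826.Bs.gg at h1
  rw [le_div_iff₀ hI, hn] at h1
  refine le_trans ?_ h1
  refine mul_le_mul_of_nonneg_right ?_ hI.le
  rw [div_div]
  refine div_le_div_of_nonneg_left (by norm_num) (by positivity) ?_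
  push_cast
  nlinarith [(Nat.cast_nonneg K : (0 : ℝ) ≤ K)]

theorem hadj : HAdj := fun _ _ _ _ _ _ _ _ _ hΦ _ hd ho h9 _ hκ => Cfsg.Agent.H881.Bs.herm_adj hΦ hd ho h9 hκ

/-- **BS22** -/
theorem s22' : S22 := s22 s11 hadj

end Cfsg.Agent.H978.Bs
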